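import Cfsg.Agent.Lib.RuP.PN
import Cfsg.Agent.Lib.RuP.St
/-! Involutions and normal subgroups in the Rudvalis group: data (generated) -/
set_option Elab.async false
set_option autoImplicit false
set_option maxRecDepth 100000
namespace H15R
open H54 H15.Mdl H15.RuM
/-- `P` holds on the coset `r E0` -/
noncomputable def allE (P : ℕ → Bool) (r : ℕ) : Bool := allLt (fun i => force (o28.mul r (tE_T i)) P) 64
/-- `P` holds on the coset number `b` of `B0` in `T0` -/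
noncomputable def allB (P : ℕ → Bool) (b : ℕ) : Bool :=
  force (tT_T b) fun q => allLt (fun c => force (o28.mul q (tB_T c)) (allE P)) 64
noncomputable def clsT : H54.Tr :=
 (.node 498609 (.node 238005 (.node 115635 (.node 61297 (.node 29208 (.node 11910 (.node 2931 (.node 1810 (.node 1580 (.leaf 48010)
 (.leaf 611))
 (.node 2164 (.leaf 0x509943)
 (.node 2548 (.leaf 618254)
 (.leaf 0x6d698e))))
 (.node 8565 (.node 4564 (.leaf 664330)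
 (.leaf 0x528f4f))
 (.node 10210 (.leaf 0x26b92a)
 (.node 10333 (.leaf 0x345dc3)
 (.leaf 4330)))))
 (.node 21028 (.node 16840 (.node 13033 (.leaf 28899)
 (.leaf 484547))
 (.node 19219 (.leaf 0x46b9a3)
 (.node 19732 (.leaf 33)
 (.leaf 0x1bac0e))))
 (.node 26381 (.node 21229 (.leaf 0x74b50e)
 (.node 21667 (.leaf 0x257b2e)
 (.leaf 414798)))
 (.node 26532 (.leaf 5290)
 (.node 27547 (.leaf 355)
 (.leaf 180803))))))
 (.node 46692 (.node 42105 (.node 36067 (.node 30227 (.leaf 0x46ba63)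
 (.leaf 536387))
 (.node 40562 (.leaf 0x77b823)
 (.node 41967 (.leaf 680419)
 (.leaf 4291))))
 (.node 45442 (.node 45296 (.leaf 614410)
 (.leaf 5091))
 (.node 45513 (.leaf 0x70b18e)
 (.node 46348 (.leaf 0x46b943)
 (.leaf 25930)))))
 (.node 54338 (.node 50548 (.node 50223 (.leaf 0x2f61ae)
 (.leaf 741135))
 (.node 50571 (.leaf 0x2c5e83)
 (.node 51268 (.leaf 0x4042c3)
 (.leaf 0x139a83))))
 (.node 57305 (.node 55218 (.leaf 411619)
 (.node 56564 (.leaf 372495)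
 (.leaf 180558)))
 (.node 60476 (.leaf 713251)
 (.node 60546 (.leaf 490)
 (.leaf 378446)))))))
 (.node 83039 (.node 70708 (.node 65410 (.node 63559 (.node 61330 (.leaf 879939)
 (.leaf 451))
 (.node 64027 (.leaf 0x16bc4e)
 (.node 64890 (.leaf 737294)
 (.leaf 1251))))
 (.node 67109 (.node 65753 (.leaf 0x139ac3)
 (.leaf 0x58d88e))
 (.node 68027 (.leaf 0x76d88e)
 (.node 69993 (.leaf 11843)
 (.leaf 0x2580ce)))))
 (.node 73472 (.node 71387 (.node 70886 (.leaf 541455)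
 (.leaf 0x322aae))
 (.node 72097 (.leaf 397987)
 (.node 72997 (.leaf 622570)
 (.leaf 48078))))
 (.node 82130 (.node 75274 (.leaf 1002)
 (.node 80031 (.leaf 8291)
 (.leaf 129)))
 (.node 82670 (.leaf 0)
 (.node 82764 (.leaf 537614)
 (.leaf 11715))))))
 (.node 96686 (.node 89591 (.node 86263 (.node 84423 (.leaf 180643)
 (.leaf 0x26b76a))
 (.node 87333 (.leaf 626415)
 (.node 87534 (.leaf 614958)
 (.leaf 614890))))
 (.node 92960 (.node 90653 (.leaf 543374)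
 (.node 90925 (.leaf 7683)
 (.leaf 0x19a2ce)))
 (.node 94143 (.leaf 0x1b994f)
 (.node 95275 (.leaf 0x5b15cf)
 (.leaf 0x5f1aea)))))
 (.node 104522 (.node 97679 (.node 97650 (.leaf 0x674d0e)
 (.leaf 0x652f2a))
 (.node 100148 (.leaf 0x6c7ee3)
 (.node 101898 (.leaf 503118)
 (.leaf 49935))))
 (.node 107847 (.node 104864 (.leaf 11875)
 (.node 107367 (.leaf 501198)
 (.leaf 13930)))
 (.node 111598 (.leaf 0x25804e)
 (.node 112867 (.leaf 743119)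
 (.leaf 5774))))))))
 (.node 177282 (.node 149388 (.node 134667 (.node 120953 (.node 119059 (.node 116682 (.leaf 491534)
 (.leaf 8227))
 (.node 119590 (.leaf 0x26b56a)
 (.node 119956 (.leaf 448046)
 (.leaf 614894))))
 (.node 127819 (.node 124407 (.leaf 0x5fa3ce)
 (.leaf 9806))
 (.node 128608 (.leaf 491726)
 (.node 134405 (.leaf 0x29c22e)
 (.leaf 693763)))))
 (.node 139841 (.node 136346 (.node 134776 (.leaf 536579)
 (.leaf 411587))
 (.node 136885 (.leaf 0x1d8bea)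
 (.node 138020 (.leaf 32719)
 (.leaf 8170))))
 (.node 145066 (.node 141153 (.leaf 618318)
 (.node 142542 (.leaf 0x46ba43)
 (.leaf 0x29a36a)))
 (.node 146543 (.leaf 0x6b526a)
 (.node 146837 (.leaf 4195)
 (.leaf 12035))))))
 (.node 161543 (.node 156049 (.node 150106 (.node 150008 (.leaf 0x1bd121)
 (.leaf 24970))
 (.node 151206 (.leaf 0x23a00f)
 (.node 152557 (.leaf 44174)
 (.leaf 0x46b94e))))
 (.node 160110 (.node 156683 (.leaf 409039)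
 (.node 160013 (.leaf 36559)
 (.leaf 11534)))
 (.node 160239 (.leaf 378319)
 (.node 160404 (.leaf 0x33abe3)
 (.leaf 501326)))))
 (.node 163948 (.node 162346 (.node 162238 (.leaf 0xfe1e3)
 (.leaf 0x5470ea))
 (.node 163594 (.leaf 0x3f5c63)
 (.node 163837 (.leaf 0x60e70e)
 (.leaf 0x5a03ca))))
 (.node 173471 (.node 165000 (.leaf 567075)
 (.node 171055 (.leaf 3850)
 (.leaf 30734)))
 (.node 175015 (.leaf 4483)
 (.node 175425 (.leaf 378255)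
 (.leaf 0x1f3dae)))))))
 (.node 206048 (.node 187501 (.node 182984 (.node 179143 (.node 177840 (.leaf 539534)
 (.leaf 0x5cc14e))
 (.node 179877 (.leaf 0xfe14e)
 (.node 182071 (.leaf 369610)
 (.leaf 11905))))
 (.node 184891 (.node 183377 (.leaf 0x23c5ce)
 (.leaf 495374))
 (.node 185656 (.leaf 77486)
 (.node 186773 (.leaf 0x29c1ae)
 (.leaf 614606)))))
 (.node 197635 (.node 192746 (.node 188979 (.leaf 626410)
 (.leaf 846250))
 (.node 193000 (.leaf 11873)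
 (.node 194042 (.leaf 0x101843)
 (.leaf 0x278d4e))))
 (.node 200680 (.node 199016 (.leaf 0xf4e83)
 (.node 200169 (.leaf 4227)
 (.leaf 614479)))
 (.node 201047 (.leaf 291)
 (.node 205149 (.leaf 11523)
 (.leaf 0xfec4e))))))
 (.node 219612 (.node 210269 (.node 208634 (.node 207961 (.leaf 34575)
 (.leaf 418575))
 (.node 209076 (.leaf 813027)
 (.node 209382 (.leaf 643)
 (.leaf 0x2a960e))))
 (.node 215575 (.node 212107 (.leaf 491598)
 (.node 212881 (.leaf 664335)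
 (.leaf 0x31a14e)))
 (.node 215757 (.leaf 0x1fdb2e)
 (.node 217576 (.leaf 0x295fea)
 (.leaf 3855)))))
 (.node 228225 (.node 222669 (.node 219720 (.leaf 0x55188e)
 (.leaf 67))
 (.node 223408 (.leaf 0x6d788e)
 (.node 224344 (.leaf 0x210eae)
 (.leaf 411459))))
 (.node 232070 (.node 228759 (.leaf 0x1fe04e)
 (.node 231807 (.leaf 0x656d0f)
 (.leaf 11521)))
 (.node 233625 (.leaf 0x5301ae)
 (.node 237556 (.leaf 0x28296e)
 (.leaf 0x35614e)))))))))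
 (.node 352437 (.node 300565 (.node 275464 (.node 259812 (.node 254175 (.node 240288 (.node 238651 (.leaf 614414)
 (.leaf 51086))
 (.node 243288 (.leaf 662410)
 (.node 249752 (.leaf 0x530283)
 (.leaf 376330))))
 (.node 256705 (.node 255084 (.leaf 0x21c00f)
 (.leaf 0xf4dc3))
 (.node 256849 (.leaf 0x416f23)
 (.node 259551 (.leaf 0x454f2a)
 (.leaf 614478)))))
 (.node 267272 (.node 261811 (.node 261572 (.leaf 51850)
 (.leaf 0x48e04a))
 (.node 263737 (.leaf 14)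
 (.node 266184 (.leaf 0x239b2e)
 (.leaf 7939))))
 (.node 274257 (.node 269279 (.leaf 48015)
 (.node 271330 (.leaf 970)
 (.leaf 418639)))
 (.node 275137 (.leaf 180739)
 (.node 275228 (.leaf 0x1e2d0e)
 (.leaf 0x1e2d0f))))))
 (.node 286477 (.node 279815 (.node 276587 (.node 276483 (.leaf 0x3502e3)
 (.leaf 737359))
 (.node 277389 (.leaf 0x491b2e)
 (.node 278100 (.leaf 0x4a556a)
 (.leaf 449))))
 (.node 281645 (.node 280806 (.leaf 520334)
 (.node 281234 (.leaf 0x6ba6ca)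
 (.leaf 5838)))
 (.node 282711 (.leaf 416718)
 (.node 282794 (.leaf 192131)
 (.leaf 420494)))))
 (.node 291522 (.node 287833 (.node 287132 (.leaf 378254)
 (.leaf 0x58518e))
 (.node 290234 (.leaf 0x3ffc4f)
 (.node 290273 (.leaf 419)
 (.leaf 1038))))
 (.node 294989 (.node 291952 (.leaf 624206)
 (.node 293881 (.leaf 12490)
 (.leaf 0x3f7743)))
 (.node 296900 (.leaf 4131)
 (.node 300531 (.leaf 4842)
 (.leaf 0x35a783)))))))
 (.node 326131 (.node 312927 (.node 304850 (.node 303989 (.node 303367 (.leaf 0x20a483)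
 (.leaf 49955))
 (.node 304607 (.leaf 501134)
 (.node 304645 (.leaf 225)
 (.leaf 0x58de2e))))
 (.node 310262 (.node 310016 (.leaf 227)
 (.leaf 0x71f763))
 (.node 311503 (.leaf 0x3745e3)
 (.node 311948 (.leaf 11651)
 (.leaf 0x49fa4e)))))
 (.node 317425 (.node 313572 (.node 312942 (.leaf 0xfe1e1)
 (.leaf 501135))
 (.node 313789 (.leaf 0x13a14e)
 (.node 317046 (.leaf 789923)
 (.leaf 0x63c323))))
 (.node 322593 (.node 317426 (.leaf 11598)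
 (.node 322394 (.leaf 0x35614f)
 (.leaf 8131)))
 (.node 322845 (.leaf 9130)
 (.node 325687 (.leaf 0x3f77e3)
 (.leaf 0x6e37c3))))))
 (.node 344507 (.node 332932 (.node 329965 (.node 327079 (.leaf 0x50bfea)
 (.leaf 46094))
 (.node 331373 (.leaf 302890)
 (.node 331824 (.leaf 380175)
 (.leaf 738255))))
 (.node 341586 (.node 333127 (.leaf 0x68104f)
 (.node 340958 (.leaf 0x6af0ea)
 (.leaf 0x758703)))
 (.node 342561 (.leaf 880099)
 (.node 343905 (.leaf 11683)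
 (.leaf 643210)))))
 (.node 348798 (.node 346483 (.node 345762 (.leaf 0x3dfe0a)
 (.leaf 393610))
 (.node 348230 (.leaf 0x6af4aa)
 (.node 348528 (.leaf 7690)
 (.leaf 624014))))
 (.node 351800 (.node 349499 (.leaf 0x21d68f)
 (.node 349891 (.leaf 537679)
 (.leaf 193)))
 (.node 351995 (.leaf 403215)
 (.node 352272 (.leaf 675)
 (.leaf 99))))))))
 (.node 426760 (.node 396162 (.node 377746 (.node 366185 (.node 358401 (.node 352780 (.leaf 0x5ec263)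
 (.leaf 10531))
 (.node 359313 (.leaf 11555)
 (.node 362406 (.leaf 50890)
 (.leaf 0x746d0f))))
 (.node 371453 (.node 366430 (.leaf 420490)
 (.leaf 12643))
 (.node 373322 (.leaf 0x713883)
 (.node 374687 (.leaf 7695)
 (.leaf 369642)))))
 (.node 385525 (.node 382293 (.node 380295 (.leaf 4810)
 (.leaf 0x6ba30a))
 (.node 382937 (.leaf 12003)
 (.node 385015 (.leaf 0x3083c3)
 (.leaf 376399))))
 (.node 395051 (.node 390736 (.leaf 0x1942c3)
 (.node 394476 (.leaf 626126)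
 (.leaf 625930)))
 (.node 395098 (.leaf 618250)
 (.node 395196 (.leaf 368655)
 (.leaf 0x462443))))))
 (.node 413053 (.node 408315 (.node 397112 (.node 396657 (.leaf 0x3007c3)
 (.leaf 28803))
 (.node 400654 (.leaf 0x56718e)
 (.node 407062 (.leaf 7779)
 (.leaf 0x71f803))))
 (.node 411247 (.node 409800 (.leaf 0x53d063)
 (.node 410788 (.leaf 625935)
 (.leaf 11971)))
 (.node 411955 (.leaf 12515)
 (.node 412927 (.leaf 665290)
 (.leaf 408975)))))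
 (.node 419642 (.node 415653 (.node 413175 (.leaf 484419)
 (.leaf 29283))
 (.node 416570 (.leaf 0x4afb2e)
 (.node 416692 (.leaf 748878)
 (.leaf 0x62322a))))
 (.node 424594 (.node 423152 (.leaf 0x1399a3)
 (.node 423650 (.leaf 0x1fdba3)
 (.leaf 10)))
 (.node 425181 (.leaf 0x2760ce)
 (.node 426154 (.leaf 11535)
 (.leaf 8650)))))))
 (.node 464891 (.node 441138 (.node 435162 (.node 430522 (.node 427957 (.leaf 12771)
 (.leaf 0x3775ce))
 (.node 430586 (.leaf 372494)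
 (.node 430988 (.leaf 420495)
 (.leaf 622090))))
 (.node 440015 (.node 435350 (.leaf 0x454b83)
 (.leaf 0x50af4e))
 (.node 440370 (.leaf 4259)
 (.node 440974 (.leaf 0x5703e3)
 (.leaf 26895)))))
 (.node 454345 (.node 447079 (.node 446862 (.leaf 0x1f2eae)
 (.leaf 368650))
 (.node 449090 (.leaf 0x7198e3)
 (.node 453349 (.leaf 0x7468a3)
 (.leaf 0x32cd0a))))
 (.node 461494 (.node 457374 (.leaf 417)
 (.node 460897 (.leaf 403214)
 (.leaf 0x656d4f)))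
 (.node 462995 (.leaf 0x20418a)
 (.node 464433 (.leaf 0x294f4e)
 (.leaf 378318))))))
 (.node 481901 (.node 470753 (.node 467438 (.node 465235 (.leaf 567203)
 (.leaf 40399))
 (.node 470279 (.leaf 542606)
 (.node 470627 (.leaf 419530)
 (.leaf 0x1bcb63))))
 (.node 476133 (.node 471972 (.leaf 0x25ad0e)
 (.node 473527 (.leaf 0x505003)
 (.leaf 0x4e9523)))
 (.node 476161 (.leaf 0x2c5d43)
 (.node 481271 (.leaf 537615)
 (.leaf 0x3f394e)))))
 (.node 487385 (.node 483998 (.node 482263 (.leaf 0x2c5dc3)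
 (.leaf 594798))
 (.node 484395 (.leaf 11587)
 (.node 486348 (.leaf 380174)
 (.leaf 7759))))
 (.node 493383 (.node 492700 (.leaf 878890)
 (.node 492922 (.leaf 785294)
 (.leaf 380170)))
 (.node 496723 (.leaf 0x454b63)
 (.node 497565 (.leaf 0x6e3743)
 (.leaf 376335))))))))))
 (.node 742882 (.node 625696 (.node 563325 (.node 536178 (.node 527014 (.node 515715 (.node 503683 (.node 499542 (.leaf 11619)
 (.leaf 0x356f43))
 (.node 503761 (.leaf 11811)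
 (.node 509381 (.leaf 0x1fc7aa)
 (.leaf 0x6e37a3))))
 (.node 519139 (.node 518024 (.leaf 0x27600e)
 (.leaf 0x1ec78e))
 (.node 521635 (.leaf 0x1fe00f)
 (.node 524109 (.leaf 4046)
 (.leaf 0x3ece03)))))
 (.node 531985 (.node 527433 (.node 527079 (.leaf 0x21ed0e)
 (.leaf 0x374183))
 (.node 528520 (.leaf 85930)
 (.node 530369 (.leaf 0x638d0e)
 (.leaf 639370))))
 (.node 533910 (.node 532237 (.leaf 131)
 (.node 533128 (.leaf 32655)
 (.leaf 526095)))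
 (.node 535866 (.leaf 874570)
 (.node 535902 (.leaf 12547)
 (.leaf 0x71388e))))))
 (.node 551030 (.node 538961 (.node 537219 (.node 537136 (.leaf 7907)
 (.leaf 15))
 (.node 538271 (.leaf 29290)
 (.node 538882 (.leaf 0x13314e)
 (.leaf 0x53da03))))
 (.node 543273 (.node 539281 (.leaf 748879)
 (.node 540713 (.leaf 3854)
 (.leaf 0x7207ea)))
 (.node 543669 (.leaf 0x6adb2e)
 (.node 547428 (.leaf 0x12cd2a)
 (.leaf 497295)))))
 (.node 555357 (.node 553444 (.node 551448 (.leaf 9678)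
 (.leaf 0x1b76e3))
 (.node 553554 (.leaf 3918)
 (.node 554173 (.leaf 858851)
 (.leaf 490286))))
 (.node 560501 (.node 557196 (.leaf 0x346143)
 (.node 560384 (.leaf 0x1fe00a)
 (.leaf 748815)))
 (.node 560611 (.leaf 0x207843)
 (.node 561436 (.leaf 643214)
 (.leaf 0x2347ea)))))))
 (.node 595092 (.node 582043 (.node 570673 (.node 568464 (.node 564242 (.leaf 11617)
 (.leaf 484579))
 (.node 568488 (.leaf 0x73686a)
 (.node 568554 (.leaf 0x206c63)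
 (.leaf 7747))))
 (.node 571919 (.node 571813 (.leaf 52810)
 (.leaf 0x64a70e))
 (.node 574452 (.leaf 0x3775cf)
 (.node 574783 (.leaf 0x139a03)
 (.leaf 137770)))))
 (.node 589464 (.node 587376 (.node 585233 (.leaf 0x181c41)
 (.leaf 1))
 (.node 587638 (.leaf 0x1e0f0f)
 (.node 588176 (.leaf 974)
 (.leaf 32654))))
 (.node 591128 (.node 589677 (.leaf 0x39870e)
 (.node 590248 (.leaf 3971)
 (.leaf 408970)))
 (.node 591158 (.leaf 0x376e4f)
 (.node 594802 (.leaf 206)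
 (.leaf 369130))))))
 (.node 612040 (.node 601647 (.node 596108 (.node 595923 (.leaf 0x26b5a3)
 (.leaf 0x1bd123))
 (.node 600019 (.leaf 49999)
 (.node 601111 (.leaf 0x21c00e)
 (.leaf 619210))))
 (.node 609154 (.node 604072 (.leaf 0x7717ce)
 (.node 607338 (.leaf 0x5b17c3)
 (.leaf 411779)))
 (.node 611853 (.leaf 503055)
 (.node 611888 (.leaf 789921)
 (.leaf 11779)))))
 (.node 615716 (.node 612628 (.node 612309 (.leaf 5775)
 (.leaf 0x342303))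
 (.node 613089 (.leaf 6735)
 (.node 614306 (.leaf 29770)
 (.leaf 0x1e25cf))))
 (.node 620499 (.node 616350 (.leaf 11553)
 (.node 619160 (.leaf 0x21ed4e)
 (.leaf 0x26b583)))
 (.node 622536 (.leaf 738254)
 (.node 623517 (.leaf 0xfec8e)
 (.leaf 0x77b7a3))))))))
 (.node 667465 (.node 647295 (.node 634374 (.node 630446 (.node 627460 (.node 625982 (.leaf 28835)
 (.leaf 680259))
 (.node 627967 (.leaf 0x705ce3)
 (.node 628531 (.leaf 180835)
 (.leaf 46095))))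
 (.node 631321 (.node 630817 (.leaf 8003)
 (.leaf 7715))
 (.node 632358 (.leaf 4355)
 (.node 633216 (.leaf 387)
 (.leaf 48014)))))
 (.node 640670 (.node 638264 (.node 635032 (.leaf 0x412bca)
 (.leaf 483))
 (.node 639683 (.leaf 625934)
 (.node 640420 (.leaf 0x32ceea)
 (.leaf 749006))))
 (.node 643563 (.node 641301 (.leaf 0x32d0ca)
 (.node 641434 (.leaf 515)
 (.leaf 0xf5363)))
 (.node 644669 (.leaf 4163)
 (.node 645155 (.leaf 12010)
 (.leaf 0x2369aa))))))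
 (.node 658302 (.node 653170 (.node 649782 (.node 648748 (.leaf 0x20efc3)
 (.leaf 0x439fa3))
 (.node 650109 (.leaf 8195)
 (.node 651185 (.leaf 372490)
 (.leaf 737486))))
 (.node 656694 (.node 655155 (.leaf 0x4fb943)
 (.node 655809 (.leaf 9615)
 (.leaf 30798)))
 (.node 657388 (.leaf 495375)
 (.node 657526 (.leaf 615850)
 (.leaf 28814)))))
 (.node 661526 (.node 659839 (.node 659427 (.leaf 0x454b6a)
 (.leaf 0x4e156a))
 (.node 660456 (.leaf 0x16bcce)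
 (.node 660893 (.leaf 195)
 (.leaf 34638))))
 (.node 662973 (.node 662076 (.leaf 0x4c81c3)
 (.node 662444 (.leaf 26894)
 (.leaf 4387)))
 (.node 664951 (.leaf 0x2bc263)
 (.node 665635 (.leaf 0xfbe43)
 (.leaf 28810)))))))
 (.node 703310 (.node 684739 (.node 673927 (.node 669756 (.node 669031 (.leaf 0x30bc4a)
 (.leaf 0x32cd4e))
 (.node 673354 (.leaf 11777)
 (.node 673795 (.leaf 40451)
 (.leaf 0x3c9f03))))
 (.node 679161 (.node 676098 (.leaf 0x75870e)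
 (.leaf 9679))
 (.node 679786 (.leaf 377290)
 (.node 683781 (.leaf 65)
 (.leaf 0x2dbe2e)))))
 (.node 691167 (.node 685765 (.node 685333 (.leaf 0x35a6e3)
 (.leaf 26959))
 (.node 686309 (.leaf 4035)
 (.node 688976 (.leaf 328398)
 (.leaf 50410))))
 (.node 695255 (.node 691499 (.leaf 0x3070a3)
 (.node 693090 (.leaf 576643)
 (.leaf 1027)))
 (.node 695495 (.leaf 8163)
 (.node 697693 (.leaf 97)
 (.leaf 491535))))))
 (.node 724820 (.node 710681 (.node 705382 (.node 705110 (.leaf 0x1eda4e)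
 (.leaf 0x26d72a))
 (.node 708338 (.leaf 3843)
 (.node 708712 (.leaf 374415)
 (.leaf 446127))))
 (.node 721231 (.node 716642 (.leaf 12067)
 (.node 716686 (.leaf 738318)
 (.leaf 446126)))
 (.node 723565 (.leaf 737358)
 (.node 724030 (.leaf 0x2d384a)
 (.leaf 504014)))))
 (.node 732024 (.node 727509 (.node 725740 (.leaf 0x59940e)
 (.leaf 547))
 (.node 729922 (.leaf 277518)
 (.node 730842 (.leaf 0x1387e3)
 (.leaf 180867))))
 (.node 739913 (.node 733323 (.leaf 0x46b9c3)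
 (.node 736145 (.leaf 0x746d0e)
 (.leaf 323)))
 (.node 740651 (.leaf 0x4e192a)
 (.node 741757 (.leaf 0x139a23)
 (.leaf 622158)))))))))
 (.node 871577 (.node 810669 (.node 775649 (.node 756161 (.node 749178 (.node 743588 (.node 743426 (.leaf 543438)
 (.leaf 7875))
 (.node 744510 (.leaf 0x181c43)
 (.node 747106 (.leaf 3875)
 (.leaf 595139))))
 (.node 751389 (.node 749341 (.leaf 0x25800e)
 (.leaf 0x232b63))
 (.node 755449 (.leaf 520335)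
 (.node 755624 (.leaf 0x348f0f)
 (.leaf 1482)))))
 (.node 771050 (.node 758056 (.node 756649 (.leaf 0x4bc96e)
 (.leaf 664334))
 (.node 759641 (.leaf 0x760563)
 (.node 762382 (.leaf 0x2c5de3)
 (.leaf 0x652b6a))))
 (.node 774387 (.node 773164 (.leaf 0x750463)
 (.node 773454 (.leaf 0x1399e3)
 (.leaf 374414)))
 (.node 774780 (.leaf 615375)
 (.node 775561 (.leaf 0x17c2ce)
 (.leaf 51918))))))
 (.node 799487 (.node 786765 (.node 777055 (.node 775953 (.leaf 680387)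
 (.leaf 381130))
 (.node 777402 (.leaf 0xfe143)
 (.node 781450 (.leaf 11681)
 (.leaf 0x5050c3))))
 (.node 793156 (.node 790469 (.leaf 11907)
 (.node 791568 (.leaf 0x1f932a)
 (.leaf 0x53d963)))
 (.node 796196 (.leaf 49930)
 (.node 797944 (.leaf 0x139a63)
 (.leaf 0x54d26a)))))
 (.node 805036 (.node 801713 (.node 800964 (.leaf 0x139b03)
 (.leaf 615370))
 (.node 802803 (.leaf 0xfe2a3)
 (.node 803182 (.leaf 0x16152a)
 (.leaf 626890))))
 (.node 808530 (.node 806368 (.leaf 3939)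
 (.node 806511 (.leaf 289)
 (.leaf 51854)))
 (.node 808874 (.leaf 4814)
 (.node 808992 (.leaf 0x322b23)
 (.leaf 0x68794e)))))))
 (.node 838541 (.node 825296 (.node 818923 (.node 815634 (.node 810732 (.leaf 29315)
 (.leaf 353))
 (.node 815833 (.leaf 48970)
 (.node 816333 (.leaf 5966)
 (.leaf 0x56f88e))))
 (.node 820808 (.node 819014 (.leaf 0x2c5ea3)
 (.leaf 0x1b994e))
 (.node 822728 (.leaf 0x24678e)
 (.node 824599 (.leaf 4067)
 (.leaf 11530)))))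
 (.node 830726 (.node 825950 (.node 825736 (.leaf 259)
 (.leaf 0x27604e))
 (.node 829291 (.leaf 8067)
 (.node 829544 (.leaf 0x4b9e63)
 (.leaf 4323))))
 (.node 832781 (.node 830774 (.leaf 8035)
 (.node 831743 (.leaf 746894)
 (.leaf 11649)))
 (.node 834482 (.leaf 0x278d0e)
 (.node 835528 (.leaf 0x2db88e)
 (.leaf 0x1ae20e))))))
 (.node 855627 (.node 850623 (.node 839096 (.node 838555 (.leaf 0x1d8bca)
 (.leaf 748814))
 (.node 839642 (.leaf 0x436463)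
 (.node 841488 (.leaf 625998)
 (.leaf 743055))))
 (.node 853251 (.node 850680 (.leaf 614415)
 (.node 850892 (.leaf 874602)
 (.leaf 4003)))
 (.node 853887 (.leaf 622094)
 (.node 854670 (.leaf 416655)
 (.leaf 0x322aa3)))))
 (.node 860825 (.node 857153 (.node 856519 (.leaf 0x5516ae)
 (.leaf 46158))
 (.node 858706 (.leaf 0x345d03)
 (.node 859692 (.leaf 0x656d0e)
 (.leaf 8323))))
 (.node 864642 (.node 861725 (.leaf 394570)
 (.node 864052 (.leaf 0x713881)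
 (.leaf 3)))
 (.node 868700 (.leaf 409930)
 (.node 869102 (.leaf 49923)
 (.leaf 36495))))))))
 (.node 948619 (.node 900156 (.node 887008 (.node 880490 (.node 876157 (.node 874802 (.leaf 0x35cd23)
 (.leaf 380650))
 (.node 877511 (.leaf 0x21c1ea)
 (.node 878469 (.leaf 7843)
 (.leaf 51855))))
 (.node 881828 (.node 880802 (.leaf 503054)
 (.leaf 126250))
 (.node 882676 (.leaf 0x23c58e)
 (.node 884831 (.leaf 40330)
 (.leaf 52330)))))
 (.node 894653 (.node 889094 (.node 887475 (.leaf 78)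
 (.leaf 12494))
 (.node 890387 (.leaf 0x374223)
 (.node 891489 (.leaf 12131)
 (.leaf 35))))
 (.node 898116 (.node 894881 (.leaf 41290)
 (.node 897413 (.leaf 0x363103)
 (.leaf 12483)))
 (.node 898936 (.leaf 0x76518e)
 (.node 899024 (.leaf 0x26b563)
 (.leaf 0x53eb43))))))
 (.node 929408 (.node 921123 (.node 914683 (.node 908510 (.leaf 0x21c04e)
 (.leaf 11809))
 (.node 917004 (.leaf 741199)
 (.node 917395 (.leaf 416654)
 (.leaf 368718))))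
 (.node 922451 (.node 921482 (.leaf 0x70f08f)
 (.node 921750 (.leaf 624078)
 (.leaf 321)))
 (.node 923406 (.leaf 0x21ed4f)
 (.node 926169 (.leaf 0x33814e)
 (.leaf 0x1e258f)))))
 (.node 940842 (.node 936138 (.node 934291 (.leaf 418570)
 (.leaf 161))
 (.node 936541 (.leaf 5839)
 (.node 938910 (.leaf 737295)
 (.leaf 0x219e4a))))
 (.node 948100 (.node 941038 (.leaf 0x345de3)
 (.node 943659 (.leaf 0x77f443)
 (.leaf 0x1e000f)))
 (.node 948239 (.leaf 0x35ab43)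
 (.node 948359 (.leaf 411811)
 (.leaf 0x348f0a)))))))
 (.node 974406 (.node 960371 (.node 951882 (.node 950772 (.node 949781 (.leaf 414734)
 (.leaf 0x2078e3))
 (.node 951470 (.leaf 0x139ae3)
 (.node 951783 (.leaf 28815)
 (.leaf 0x68eb6a))))
 (.node 956488 (.node 953548 (.leaf 0x2cabaa)
 (.leaf 0x1b1f2a))
 (.node 959698 (.leaf 3907)
 (.node 960021 (.leaf 26958)
 (.leaf 385)))))
 (.node 967548 (.node 965185 (.node 961560 (.leaf 40355)
 (.leaf 0x5b1863))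
 (.node 965773 (.leaf 0x5b15ce)
 (.node 967526 (.leaf 34574)
 (.leaf 368654))))
 (.node 972853 (.node 968458 (.leaf 0x504baa)
 (.node 970939 (.leaf 0x32cd0f)
 (.leaf 1450)))
 (.node 973502 (.leaf 0x21ed0f)
 (.node 974159 (.leaf 0x6b988e)
 (.leaf 40335))))))
 (.node 986759 (.node 980391 (.node 978478 (.node 974685 (.leaf 0x21c04f)
 (.leaf 40323))
 (.node 979586 (.leaf 9614)
 (.node 979850 (.leaf 0x6ff06e)
 (.leaf 257))))
 (.node 985160 (.node 983404 (.leaf 11585)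
 (.node 983830 (.leaf 963)
 (.leaf 7811)))
 (.node 985691 (.leaf 0x2aeec3)
 (.node 985767 (.leaf 4099)
 (.leaf 595011)))))
 (.node 990195 (.node 987312 (.node 986835 (.leaf 163)
 (.leaf 0x1fdb23))
 (.node 988549 (.leaf 39331)
 (.node 989453 (.leaf 0x4af4ca)
 (.leaf 0x32cd0e))))
 (.node 996842 (.node 992339 (.leaf 0x1a54aa)
 (.node 993927 (.leaf 46159)
 (.leaf 501199)))
 (.node 999333 (.leaf 738319)
 (.node 999335 (.leaf 0x1fe00e)
 (.leaf 543375)))))))))))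
noncomputable def clsP (q : ℕ) : Bool := bimp (o28.isOne (o28.mul q q)) (bor (o28.isOne q)
  (force (clsT.get (Nat.mod q 1000003)) fun h => force (Nat.shiftRight h 5) fun a => force (Nat.land h 31) fun i =>
    band (Nat.ble (Nat.succ a) 245760) (band (anyL (Nat.beq i) [0, 1, 3, 10, 14, 15]) (o28.cj (tC_e a) (nth XL i) q))))
theorem cls_ok0 : allB clsP 0 = true := by decide +kernel
theorem cls_ok1 : allB clsP 1 = true := by decide +kernel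
theorem cls_ok2 : allB clsP 2 = true := by decide +kernel
theorem cls_ok3 : allB clsP 3 = true := by decide +kernel
/-- pairs `(k, u)` with `k * x 0 * k⁻¹ = u` -/
def fusL : List (List ℕ × List ℕ) := [([22, 26], [2]), ([26, 24, 22, 26], [6]), ([30, 26, 24, 18, 26, 24, 26], [20]), ([20, 26, 32, 26, 20, 24, 26], [30]), ([26], [0, 2]), ([18, 26, 24, 26], [0, 6]), ([26, 24, 26, 30, 24, 26], [0, 20]), ([26, 16, 32, 26, 24, 26], [0, 30])]
theorem fus_ok : allL (fun p => band (band (wfL 17 [p.1]) (wfL 17 [p.2])) (o28.cj (mw o28 XT p.1) (nth XL 0) (mw o28 XT p.2))) fusL = true := by decide +kernel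
/-- the fixed vectors of `x 0` -/
def FL : List ℕ := [0xfae7574, 0x6634c74, 0xd7fdae4, 0x547ff7a, 0xf70c0ee, 0x375fceb, 0x58e5699, 0x52fe0d, 0x24bc0b9, 0x1f8720d, 0x8c3c5e9, 0x601c98e, 0xb14ca47, 0x9ed7cd, 0xda3ef7a, 0x346eae7, 0xb584c23, 0x833c18a, 0xe566026, 0x236d0d, 0x444642b, 0x8c145ed, 0xbc8ffd9, 0x329d4b6, 0xbaec2c7, 908532, 0x9a351e2, 0xa6ccbfd, 0x21ed09, 0x105cdc5, 0x9d9fae5, 0x6ec6333, 0xff5893, 0xf0153ee, 0x4b551a4, 0xaa9e859, 0xd186d5a, 0x15de630, 0xc877dd1, 0x1f272cd, 0xe687fe6, 0xe4efcbc, 0xecee17f, 0xfd8e653, 0x297f527, 0x95e5566, 0x252d683, 0x74c5d94, 506731, 0x7aa22c, 0xd7bffe, 0x1350d7e, 0x181bdda, 0x1b61a19, 0x20a9302, 0x22b1954, 0x26327d4, 0x2e8b95c, 0x349bf3c, 0x3b180d7, 0x4359074, 0x54ca909, 0x5593c5f, 0x5de93dc, 0x64ca215, 0x6b49dfe, 0x704bf07, 0x7f83123, 0x804083d, 0x87da99e, 0x93b0583, 0x9880767, 0x9a6b69e, 0x9bfa0a4, 0xa3fbf50, 0xb75990a,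 0xba9ac94, 0xbab97dc, 0xbaf9474, 0xbce1b2a, 0xc3e18aa, 0xca3abb7, 0xd41a27b, 0xd593ee1, 0xe6320be, 0xe66a09d, 0xe76bcc3, 0xeae8af5, 0xecb0603, 0xf76241d, 0xfaa1183, 0xfb58d3e]
theorem fix_ok_0 : H54.allLt (fun i => force (c0 i) fun v => band (H15.Mdl.bnot (Nat.beq (o28_act (nth XL 14) v) v)) (bimp (Nat.beq (o28_act (nth XL 0) v) v) (anyL (Nat.beq v) FL))) 2100 = true := by decide +kernel
theorem fix_ok_1 : H54.allFrom (fun i => force (c0 i) fun v => band (H15.Mdl.bnot (Nat.beq (o28_act (nth XL 14) v) v)) (bimp (Nat.beq (o28_act (nth XL 0) v) v) (anyL (Nat.beq v) FL))) 2100 1960 = true := by decide +kernel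
theorem fix_ok : ∀ i, i < 4060 → (fun i => force (c0 i) fun v => band (H15.Mdl.bnot (Nat.beq (o28_act (nth XL 14) v) v)) (bimp (Nat.beq (o28_act (nth XL 0) v) v) (anyL (Nat.beq v) FL))) i = true :=
  (forall_append (k := 2100) (forall_of_allLt fix_ok_0) fix_ok_1)
noncomputable def FP : List (ℕ × ℕ) := (FL.product FL).filter fun p => Nat.beq (Bc p.1 p.2) 1
theorem FP_len : FP.length = 5120 ∧ Bc (c0 0) (c0 1) = 1 := by decide +kernel
def YW : List (List ℕ) := [[], [1, 0, 1, 0], [0, 1, 0, 1], [0, 0, 0, 0, 0, 0], [1, 1, 1, 1, 1, 0], [1, 1, 1, 1, 0, 1], [1, 1, 1, 0, 1, 1], [1, 1, 0, 1, 1, 1], [1, 0, 1, 1, 1, 1], [0, 1, 1, 1, 1, 1], [1, 1, 1, 1, 0, 0, 0, 0, 0], [0, 1, 1, 1, 1, 0, 0, 0, 0], [0, 0, 1, 1, 1, 1, 0, 0, 0], [0, 0, 0, 1, 1, 1, 1, 0, 0], [0, 0, 0, 0, 1, 1, 1, 1, 0], [1, 1, 1, 0, 0, 0, 0, 0, 1], [1, 1, 0, 0, 0, 0, 0, 1, 1], [1, 0, 0, 0, 0, 0, 1, 1, 1], [0, 0, 0,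 0, 0, 1, 1, 1, 1], [1, 1, 0, 0, 0, 0, 0, 0, 0, 0], [0, 0, 1, 1, 0, 0, 0, 0, 0, 0], [1, 1, 0, 0, 1, 0, 0, 0, 0, 0], [0, 0, 0, 1, 1, 0, 0, 0, 0, 0], [1, 0, 0, 1, 1, 0, 0, 0, 0, 0], [0, 1, 1, 0, 0, 1, 0, 0, 0, 0], [0, 0, 0, 0, 1, 1, 0, 0, 0, 0], [0, 1, 0, 0, 1, 1, 0, 0, 0, 0], [0, 0, 1, 1, 0, 0, 1, 0, 0, 0], [0, 0, 0, 0, 0, 1, 1, 0, 0, 0], [0, 0, 1, 0, 0, 1, 1, 0, 0, 0], [1, 1, 0, 0, 0, 0, 0, 1, 0, 0], [0, 0, 0, 1, 1, 0, 0, 1, 0, 0], [0, 0, 0, 0, 0, 0, 1, 1, 0, 0], [1, 0, 0, 0, 0, 0, 1, 1, 0, 0], [0, 0, 0, 1, 0, 0, 1, 1, 0, 0], [0, 1, 1, 0, 0, 0, 0, 0, 1, 0], [0, 0, 0, 0, 1, 1, 0, 0, 1, 0], [0, 1, 0, 0, 0, 0, 0, 1, 1, 0], [0, 0, 0, 0, 1, 0, 0, 1, 1, 0], [1, 1, 1, 0, 1, 1, 0, 1, 1, 0], [1, 1, 0, 1, 1, 0, 1, 1, 1, 0], [1, 0, 0, 0, 0, 0, 0, 0, 0, 1], [1, 0, 0, 1, 0, 0, 0, 0, 0, 1], [0, 0, 1, 1, 0, 0, 0, 0, 0, 1], [1, 0, 0, 0, 0, 0, 1, 0, 0, 1], [0, 0, 0, 0, 0, 1, 1, 0,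 0, 1], [1, 1, 0, 1, 1, 0, 1, 1, 0, 1], [1, 0, 1, 1, 1, 0, 1, 1, 0, 1], [1, 0, 1, 1, 0, 1, 1, 1, 0, 1], [0, 0, 0, 0, 0, 0, 0, 0, 1, 1], [0, 0, 1, 0, 0, 0, 0, 0, 1, 1], [0, 0, 0, 0, 0, 1, 0, 0, 1, 1], [1, 0, 1, 1, 0, 1, 1, 0, 1, 1], [0, 1, 1, 1, 0, 1, 1, 0, 1, 1], [0, 1, 1, 0, 1, 1, 0, 1, 1, 1], [1, 1, 1, 1, 0, 0, 1, 0, 0, 0, 0], [1, 0, 0, 1, 1, 1, 1, 0, 0, 0, 0], [1, 0, 1, 1, 0, 0, 0, 1, 0, 0, 0], [0, 1, 1, 1, 1, 0, 0, 1, 0, 0, 0], [1, 1, 1, 1, 1, 0, 0, 1, 0, 0, 0], [0, 1, 0, 0, 1, 1, 1, 1, 0, 0, 0], [0, 1, 0, 1, 1, 0, 0, 0, 1, 0, 0], [0, 0, 1, 1, 1, 1, 0, 0, 1, 0, 0], [0, 1, 1, 1, 1, 1, 0, 0, 1, 0, 0], [1, 1, 1, 1, 1, 1, 0, 0, 1, 0, 0], [1, 0, 0, 0, 0, 1, 1, 1, 1, 0, 0], [0, 0, 1, 0, 0, 1, 1, 1, 1, 0, 0], [1, 0, 0, 1, 1, 1, 1, 1, 1, 0, 0], [0, 1, 1, 1, 1, 0, 0, 0, 0, 1, 0], [1, 1, 0, 0, 0, 1, 0, 0, 0, 1, 0], [0, 0, 1, 0, 1, 1, 0, 0, 0, 1, 0], [0, 0, 0, 1, 1, 1, 1,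 0, 0, 1, 0], [0, 1, 1, 1, 1, 1, 1, 0, 0, 1, 0], [1, 0, 0, 0, 1, 0, 0, 0, 1, 1, 0], [1, 1, 1, 1, 1, 1, 1, 0, 1, 1, 0], [0, 1, 0, 0, 0, 0, 1, 1, 1, 1, 0], [0, 0, 0, 1, 0, 0, 1, 1, 1, 1, 0], [0, 0, 1, 0, 0, 1, 1, 1, 1, 1, 0], [0, 1, 0, 0, 1, 1, 1, 1, 1, 1, 0], [1, 1, 1, 0, 0, 1, 0, 0, 0, 0, 1], [0, 0, 1, 1, 1, 1, 0, 0, 0, 0, 1], [1, 0, 1, 0, 0, 0, 1, 0, 0, 0, 1], [0, 1, 1, 0, 0, 0, 1, 0, 0, 0, 1], [1, 1, 1, 1, 0, 0, 1, 0, 0, 0, 1], [1, 1, 1, 1, 0, 0, 0, 1, 0, 0, 1], [1, 1, 1, 1, 1, 0, 0, 1, 0, 0, 1], [0, 0, 0, 0, 1, 1, 1, 1, 0, 0, 1], [0, 0, 1, 1, 1, 1, 1, 1, 0, 0, 1], [1, 0, 0, 0, 1, 0, 0, 0, 1, 0, 1], [1, 1, 1, 1, 1, 1, 0, 1, 1, 0, 1], [0, 1, 0, 0, 0, 1, 0, 0, 0, 1, 1], [1, 1, 1, 0, 0, 1, 0, 0, 0, 1, 1], [1, 1, 1, 0, 0, 0, 1, 0, 0, 1, 1], [1, 1, 1, 1, 0, 0, 1, 0, 0, 1, 1], [1, 0, 0, 0, 0, 1, 0, 0, 1, 1, 1], [1, 1, 0, 0, 0, 1, 0, 0, 1, 1, 1], [1, 1, 1, 1, 0, 1, 1,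 0, 1, 1, 1], [1, 0, 0, 0, 1, 0, 0, 1, 1, 1, 1], [1, 1, 0, 0, 1, 0, 0, 1, 1, 1, 1], [1, 1, 1, 0, 1, 1, 0, 1, 1, 1, 1], [1, 0, 0, 1, 0, 0, 1, 1, 1, 1, 1], [1, 1, 0, 1, 0, 1, 0, 0, 0, 0, 0, 0], [1, 0, 1, 0, 1, 1, 0, 0, 0, 0, 0, 0], [0, 1, 0, 1, 0, 1, 1, 0, 0, 0, 0, 0], [1, 0, 1, 0, 0, 0, 0, 1, 0, 0, 0, 0], [1, 0, 0, 0, 0, 1, 0, 1, 0, 0, 0, 0], [0, 0, 1, 1, 0, 1, 0, 1, 0, 0, 0, 0], [0, 0, 1, 0, 1, 0, 1, 1, 0, 0, 0, 0], [0, 1, 0, 1, 0, 0, 0, 0, 1, 0, 0, 0], [0, 1, 0, 0, 0, 0, 1, 0, 1, 0, 0, 0], [0, 0, 0, 1, 1, 0, 1, 0, 1, 0, 0, 0], [0, 0, 0, 1, 0, 1, 0, 1, 1, 0, 0, 0], [1, 0, 1, 1, 0, 1, 1, 1, 1, 0, 0, 0], [0, 0, 1, 0, 1, 0, 0, 0, 0, 1, 0, 0], [0, 0, 1, 0, 0, 0, 0, 1, 0, 1, 0, 0], [0, 0, 0, 0, 1, 1, 0, 1, 0, 1, 0, 0], [1, 1, 0, 1, 1, 1, 0, 1, 0, 1, 0, 0], [1, 0, 1, 0, 1, 0, 1, 1, 0, 1, 0, 0], [0, 1, 1, 1, 1, 0, 1, 1, 0, 1, 0, 0], [0, 0, 0, 0, 1, 0, 1, 0, 1, 1, 0, 0],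 [1, 0, 1, 0, 1, 1, 1, 0, 1, 1, 0, 0], [0, 1, 0, 1, 1, 0, 1, 1, 1, 1, 0, 0], [1, 0, 1, 1, 0, 0, 0, 0, 0, 0, 1, 0], [1, 0, 0, 0, 0, 1, 0, 0, 0, 0, 1, 0], [0, 0, 0, 1, 0, 1, 0, 0, 0, 0, 1, 0], [1, 1, 0, 0, 1, 1, 1, 0, 0, 0, 1, 0], [1, 1, 0, 1, 1, 1, 1, 0, 0, 0, 1, 0], [1, 1, 0, 0, 0, 0, 0, 0, 1, 0, 1, 0], [0, 0, 0, 1, 0, 0, 0, 0, 1, 0, 1, 0], [1, 0, 1, 1, 0, 1, 0, 0, 1, 0, 1, 0], [1, 1, 1, 0, 1, 1, 0, 0, 1, 0, 1, 0], [1, 1, 0, 1, 0, 0, 1, 0, 1, 0, 1, 0], [1, 0, 0, 1, 0, 1, 1, 0, 1, 0, 1, 0], [1, 0, 0, 0, 0, 0, 0, 1, 1, 0, 1, 0], [1, 0, 1, 0, 0, 1, 0, 1, 1, 0, 1, 0], [0, 0, 1, 1, 1, 1, 0, 1, 1, 0, 1, 0], [1, 0, 0, 1, 1, 0, 1, 1, 1, 0, 1, 0], [1, 1, 1, 0, 1, 0, 1, 0, 0, 1, 1, 0], [1, 0, 0, 0, 1, 1, 1, 0, 0, 1, 1, 0], [1, 0, 1, 0, 1, 0, 0, 1, 0, 1, 1, 0], [1, 0, 0, 0, 1, 1, 1, 1, 0, 1, 1, 0], [1, 1, 0, 0, 1, 0, 1, 0, 1, 1, 1, 0], [0, 0, 1, 0, 1, 1, 0, 1, 1, 1, 1, 0], [0,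 1, 0, 1, 1, 0, 0, 0, 0, 0, 0, 1], [0, 1, 0, 0, 0, 0, 1, 0, 0, 0, 0, 1], [0, 0, 0, 0, 1, 0, 1, 0, 0, 0, 0, 1], [0, 1, 1, 0, 0, 1, 1, 1, 0, 0, 0, 1], [0, 1, 1, 0, 1, 1, 1, 1, 0, 0, 0, 1], [1, 0, 1, 1, 1, 0, 1, 0, 1, 0, 0, 1], [0, 1, 0, 1, 0, 1, 1, 0, 1, 0, 0, 1], [1, 0, 1, 0, 0, 0, 1, 1, 1, 0, 0, 1], [0, 1, 1, 0, 0, 0, 0, 0, 0, 1, 0, 1], [0, 0, 0, 0, 1, 0, 0, 0, 0, 1, 0, 1], [1, 0, 0, 1, 1, 1, 0, 0, 0, 1, 0, 1], [1, 0, 1, 1, 1, 1, 0, 0, 0, 1, 0, 1], [0, 1, 0, 1, 1, 0, 1, 0, 0, 1, 0, 1], [1, 1, 1, 1, 1, 1, 1, 0, 0, 1, 0, 1], [1, 0, 0, 0, 0, 0, 0, 1, 0, 1, 0, 1], [0, 1, 1, 0, 1, 0, 0, 1, 0, 1, 0, 1], [1, 1, 0, 1, 1, 0, 0, 1, 0, 1, 0, 1], [0, 0, 1, 0, 1, 1, 0, 1, 0, 1, 0, 1], [1, 1, 0, 1, 0, 1, 0, 0, 1, 1, 0, 1], [0, 1, 0, 1, 0, 0, 1, 0, 1, 1, 0, 1], [0, 0, 0, 1, 1, 1, 1, 0, 1, 1, 0, 1]]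
noncomputable def YT (i : ℕ) : ℕ := o28.word ST2 (nthW YW i)
noncomputable def YI : H54.Tr :=
 (.node 49561 (.node 25214 (.node 9362 (.node 2612 (.node 1439 (.node 684 (.node 245 (.leaf 128)
 (.leaf 64))
 (.node 1248 (.leaf 109)
 (.node 1416 (.leaf 134)
 (.leaf 73))))
 (.node 1748 (.node 1511 (.leaf 155)
 (.leaf 119))
 (.node 2074 (.leaf 112)
 (.node 2250 (.leaf 17)
 (.leaf 69)))))
 (.node 6539 (.node 4918 (.node 4216 (.leaf 10)
 (.leaf 19))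
 (.node 4928 (.leaf 124)
 (.node 5142 (.leaf 37)
 (.leaf 82))))
 (.node 7248 (.node 6623 (.leaf 105)
 (.leaf 140))
 (.node 7741 (.leaf 44)
 (.node 8449 (.leaf 91)
 (.leaf 94))))))
 (.node 18285 (.node 11415 (.node 9647 (.node 9540 (.leaf 8)
 (.leaf 130))
 (.node 10175 (.leaf 9)
 (.node 11377 (.leaf 142)
 (.leaf 92))))
 (.node 14132 (.node 13322 (.leaf 127)
 (.leaf 132))
 (.node 14363 (.leaf 118)
 (.node 18013 (.leaf 74)
 (.leaf 138)))))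
 (.node 22184 (.node 19593 (.node 19275 (.leaf 46)
 (.leaf 107))
 (.node 21440 (.leaf 56)
 (.node 21447 (.leaf 158)
 (.leaf 47))))
 (.node 24709 (.node 22739 (.leaf 72)
 (.node 22958 (.leaf 160)
 (.leaf 83)))
 (.node 24957 (.leaf 115)
 (.node 25084 (.leaf 76)
 (.leaf 6)))))))
 (.node 36213 (.node 31225 (.node 28542 (.node 25424 (.node 25301 (.leaf 23)
 (.leaf 120))
 (.node 26981 (.leaf 122)
 (.node 28075 (.leaf 41)
 (.leaf 103))))
 (.node 30185 (.node 28900 (.leaf 137)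
 (.leaf 42))
 (.node 30682 (.leaf 57)
 (.node 30713 (.leaf 29)
 (.leaf 52)))))
 (.node 32967 (.node 32543 (.node 32014 (.leaf 36)
 (.leaf 48))
 (.node 32645 (.leaf 125)
 (.node 32926 (.leaf 30)
 (.leaf 116))))
 (.node 34485 (.node 34203 (.leaf 88)
 (.leaf 151))
 (.node 34661 (.leaf 131)
 (.node 35279 (.leaf 1)
 (.leaf 80))))))
 (.node 43603 (.node 41038 (.node 37937 (.node 37899 (.leaf 108)
 (.leaf 49))
 (.node 38627 (.leaf 98)
 (.node 40640 (.leaf 21)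
 (.leaf 39))))
 (.node 41436 (.node 41380 (.leaf 104)
 (.leaf 154))
 (.node 42488 (.leaf 66)
 (.node 43228 (.leaf 28)
 (.leaf 156)))))
 (.node 47535 (.node 46448 (.node 45990 (.leaf 113)
 (.leaf 43))
 (.node 46886 (.leaf 89)
 (.node 47075 (.leaf 84)
 (.leaf 11))))
 (.node 48516 (.node 48202 (.leaf 34)
 (.node 48267 (.leaf 78)
 (.leaf 58)))
 (.node 48619 (.leaf 97)
 (.node 48653 (.leaf 27)
 (.leaf 65))))))))
 (.node 74308 (.node 61668 (.node 58870 (.node 53855 (.node 50775 (.node 50441 (.leaf 126)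
 (.leaf 96))
 (.node 51511 (.leaf 99)
 (.node 53712 (.leaf 143)
 (.leaf 111))))
 (.node 57597 (.node 56120 (.leaf 35)
 (.leaf 147))
 (.node 57932 (.leaf 157)
 (.node 58763 (.leaf 146)
 (.leaf 150)))))
 (.node 60226 (.node 59104 (.node 58871 (.leaf 95)
 (.leaf 161))
 (.node 59471 (.leaf 7)
 (.node 59748 (.leaf 93)
 (.leaf 85))))
 (.node 60900 (.node 60335 (.leaf 153)
 (.leaf 90))
 (.node 61198 (.leaf 51)
 (.node 61532 (.leaf 55)
 (.leaf 110))))))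
 (.node 67580 (.node 64006 (.node 62706 (.node 62204 (.leaf 67)
 (.leaf 79))
 (.node 62912 (.leaf 123)
 (.node 63701 (.leaf 145)
 (.leaf 63))))
 (.node 66628 (.node 64540 (.leaf 13)
 (.leaf 70))
 (.node 67232 (.leaf 71)
 (.node 67405 (.leaf 163)
 (.leaf 77)))))
 (.node 72882 (.node 70721 (.node 70550 (.leaf 101)
 (.leaf 25))
 (.node 71830 (.leaf 22)
 (.node 71863 (.leaf 148)
 (.leaf 15))))
 (.node 73539 (.node 73428 (.leaf 106)
 (.node 73450 (.leaf 149)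
 (.leaf 31)))
 (.node 73630 (.leaf 0)
 (.node 74231 (.leaf 136)
 (.leaf 45)))))))
 (.node 85521 (.node 80423 (.node 76472 (.node 74800 (.node 74599 (.leaf 86)
 (.leaf 81))
 (.node 75218 (.leaf 59)
 (.node 76063 (.leaf 141)
 (.leaf 152))))
 (.node 77760 (.node 77392 (.leaf 102)
 (.leaf 135))
 (.node 77908 (.leaf 60)
 (.node 79715 (.leaf 114)
 (.leaf 121)))))
 (.node 84075 (.node 82270 (.node 81803 (.leaf 61)
 (.leaf 139))
 (.node 83187 (.leaf 26)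
 (.node 83323 (.leaf 16)
 (.leaf 32))))
 (.node 84361 (.node 84150 (.leaf 4)
 (.leaf 54))
 (.node 84621 (.leaf 20)
 (.node 84999 (.leaf 129)
 (.leaf 18))))))
 (.node 90717 (.node 88529 (.node 86923 (.node 86288 (.leaf 159)
 (.leaf 53))
 (.node 87033 (.leaf 5)
 (.node 87372 (.leaf 144)
 (.leaf 50))))
 (.node 89501 (.node 89329 (.leaf 62)
 (.leaf 100))
 (.node 89795 (.leaf 68)
 (.node 90141 (.leaf 117)
 (.leaf 3)))))
 (.node 92892 (.node 92121 (.node 91733 (.leaf 38)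
 (.leaf 2))
 (.node 92286 (.leaf 87)
 (.node 92386 (.leaf 24)
 (.leaf 12))))
 (.node 96668 (.node 93313 (.leaf 14)
 (.node 93409 (.leaf 40)
 (.leaf 133)))
 (.node 98746 (.leaf 75)
 (.node 99820 (.leaf 33)
 (.leaf 162)))))))))
theorem Y_hd : ∀ i, i < 164 → Nat.beq (YI.get (Nat.mod (YT i) 100003)) i = true :=
  forall_of_allLt (by decide +kernel)
theorem Y_inv : ∀ i, i < 163 → incAt 164 YT Nat.succ o28.isInv i = true :=
  forall_of_allLt (by decide +kernel)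
theorem Y_wf : allL (allL fun j => Nat.ble j 1) YW = true := by decide +kernel
/-- the letters `K` normalise the group generated by the words `L` -/
noncomputable def nrmOk (L : List (List ℕ)) (K : List ℕ) (H : List (List ℕ)) : Bool :=
  allL (fun k => allLt (fun j => band (band (wfL 17 [Nat.mul 2 k :: nthW L j ++ [Nat.mul 2 k]])
    (wfL 17 [subW L (nthW H (Nat.add (Nat.mul k (len L)) j))]))
    (o28.eqv (mw o28 XT (Nat.mul 2 k :: nthW L j ++ [Nat.mul 2 k]))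
      (mw o28 XT (subW L (nthW H (Nat.add (Nat.mul k (len L)) j)))))) (len L)) K
def LFw : List (List ℕ) := [[0], [2]]
def LZw : List (List ℕ) := [[0], [2], [4], [12]]
def LAw : List (List ℕ) := [[0]]
theorem nrmW_ok : nrmOk LWw LN [[0], [2], [4], [6], [8], [10], [12], [14], [16], [18], [20], [0], [2], [4], [6], [8], [10], [12], [14], [16], [18], [20], [0], [2], [4], [6], [8], [10], [0, 12], [14], [0, 2, 16], [0, 2, 18], [0, 8, 20], [0], [2], [4], [6], [8], [0, 10], [12], [2, 14], [16], [2, 8, 18], [0, 2, 20], [0], [2], [4], [6], [0, 8], [0, 10], [0, 2, 12], [2, 4, 14], [6, 16], [4, 18, 10, 6], [0, 4, 6, 20, 12], [0], [2], [4], [6], [2, 8], [0, 4, 10], [0, 2, 6, 12], [0, 2, 14], [6, 16], [4, 14, 18], [4, 6, 16, 20, 12], [0], [2], [4], [6], [8], [10], [12], [14], [16], [18], [20], [0], [2], [4], [0, 6], [8], [10], [12], [0, 14], [8, 16], [8, 18], [10, 20, 10], [0],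 [2], [0, 4], [6], [0, 8], [0, 10], [0, 2, 12], [4, 8, 14], [6, 16], [4, 10, 18, 6], [4, 6, 12, 20], [0], [2], [4], [2, 6], [2, 8], [4, 10], [2, 6, 8, 12], [0, 2, 14], [0, 6, 8, 16], [4, 14, 18], [4, 6, 12, 16, 20], [0], [2], [0, 2, 4], [6], [0, 2, 8], [4, 20, 10, 20], [6, 12], [0, 4, 8, 14], [16], [4, 10, 14, 6, 18], [0, 6, 16, 20], [0], [0, 2], [4], [4, 6], [8], [10], [4, 8, 10, 12], [14, 10], [4, 12, 14, 6, 16], [4, 6, 14, 10, 18, 12], [4, 14, 20, 16, 18], [], [], [], [], [], [], [], [], [], [], [], [0, 2], [2], [0, 2, 6], [0, 4], [8], [0, 16], [4, 6, 8, 14, 10], [6, 8, 16, 4, 12], [0, 2, 10], [6, 20, 16, 14], [6, 10, 16, 18, 12], [0], [2], [0, 2, 4], [2, 6, 8], [8], [8, 10], [0, 8, 12], [14], [0, 16], [18], [0, 8, 20], [0], [2], [0, 4, 8], [0, 2, 6], [8], [20, 10, 20], [8, 12], [2, 8, 14], [0, 2, 16], [0, 8, 18], [20], [0], [0, 8], [0, 2, 4, 10], [4, 6, 12, 16,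 18], [0, 2], [20, 10, 20], [4, 6, 10, 12, 14], [4, 10, 16, 14, 18, 12], [4, 18, 20, 12], [6, 20, 12, 16, 14], [20]] = true := by decide +kernel
theorem nrmQ_ok : nrmOk LQw LC [[0], [2], [4], [6], [8], [10], [12], [14], [16], [18], [20], [0], [2], [4], [6], [8], [10], [12], [14], [16], [0, 18], [20], [0], [2], [4], [6], [8], [10], [12], [0, 14], [16], [18], [20], [0], [2], [4], [6], [8], [10], [0, 12], [14], [2, 16], [4, 18], [2, 10, 20], [0], [2], [4], [6], [8], [0, 10], [0, 12], [0, 2, 14], [2, 4, 16], [0, 4, 18], [8, 20, 8], [0], [2], [4], [6], [8], [2, 10], [0, 4, 12], [0, 2, 6, 14], [0, 2, 16], [2, 8, 18, 6], [0, 6, 20, 16], [0], [2], [4], [6], [0, 8], [10], [12], [0, 14], [16], [18], [0, 20], [0], [2], [4], [0, 6], [0, 8], [10], [12], [0, 14], [0, 16], [18], [0, 20], [0], [2], [0, 4], [6], [0, 2, 8], [0, 10], [0, 12], [14], [4, 10, 16], [10, 12, 18], [14, 20,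 14], [0], [2], [4], [2, 6], [2, 4, 8], [2, 10], [4, 12], [4, 6, 14, 10], [0, 2, 16], [2, 6, 12, 8, 18], [0, 16, 6, 20], [0], [2], [0, 2, 4], [6], [6, 8], [0, 2, 10], [2, 20, 20], [14], [0, 4, 10, 16], [18, 14, 16, 6], [2, 20, 12, 16], [0], [0, 2], [4], [4, 6], [0, 4, 8], [10], [12], [10, 12, 14], [16, 12], [18], [18, 20, 18], [0], [0, 4], [0, 2], [0, 6, 8], [8], [0, 2, 4, 12], [0, 2, 4, 10], [10, 18], [8, 10, 16, 12], [2, 4, 14, 12], [6, 20, 16], [], [], [], [], [], [], [], [], [], [], [], [0], [2], [0, 2, 4], [2, 6, 10], [8, 20, 6, 20], [10], [10, 12], [2, 6, 14, 20, 20], [16], [6, 8, 12, 16, 14, 18], [6, 18, 20, 18], [0], [2], [0, 4, 10], [0, 2, 6], [6, 16, 14, 16], [10], [0, 2, 10, 12], [0, 4, 6, 8], [2, 10, 16], [8, 20, 18, 16], [6, 8, 14, 4, 20], [0], [0, 10], [0, 2, 4, 12], [20, 6, 14, 4], [8, 14, 16, 6, 18], [0, 2], [0, 2, 10, 12], [18, 20, 20], [12, 20, 16,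 14], [0, 16, 14, 16], [18, 20, 14]] = true := by decide +kernel
theorem nrmU_ok : nrmOk LUw LC [[0], [2], [4], [6], [8], [0], [2], [4], [6], [8], [0], [2], [4], [6], [8], [0], [2], [4], [6], [0, 8], [0], [2], [4], [0, 6], [0, 8], [0], [2], [4], [2, 6], [0, 4, 8], [0], [2], [4], [6], [8], [0], [2], [4], [6], [8], [0], [2], [0, 4], [0, 6], [0, 8], [0], [2], [4], [2, 6], [4, 8], [0], [2], [0, 2, 4], [0, 2, 6], [0, 2, 4, 6, 8], [0], [0, 2], [4], [6], [8], [0], [0, 4], [0, 2], [0, 2, 4, 8], [0, 2, 4, 6], [], [], [], [], [], [0], [2], [0, 2, 4], [6], [6, 8], [0], [2], [0, 4, 6], [6], [0, 2, 6, 8], [0], [0, 6], [0, 2, 4, 8], [0, 2], [0, 2, 6, 8]] = true := by decide +kernel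
theorem nrmV_ok : nrmOk LVw LN [[0], [2], [4], [0], [2], [4], [0], [2], [4], [0], [2], [4], [0], [2], [0, 4], [0], [2], [2, 4], [0], [2], [4], [0], [2], [4], [0], [2], [0, 4], [0], [2], [2, 4], [0], [2], [0, 2, 4], [0], [0, 2], [4], [], [], [], [0, 2], [2], [4], [0], [2], [4], [0], [2], [4], [0], [0, 4], [0, 2]] = true := by decide +kernel
theorem nrmF_ok : nrmOk LFw LT [[0], [2], [0], [2], [0], [2], [0], [2], [0], [2], [0], [2], [0], [2], [0], [2], [0], [2], [0], [2], [0], [2], [0], [0, 2], [], [], [], [], [0], [2], [0], [2], [], []] = true := by decide +kernel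
theorem nrmZ_ok : nrmOk LZw LT [[0], [2], [4], [6], [0], [2], [4], [6], [0], [2], [4], [6], [0], [2], [4], [6], [0], [2], [4], [0, 6], [0], [2], [4], [2, 6], [0], [2], [4], [6], [0], [2], [4], [6], [0], [2], [0, 4], [0, 6], [0], [2], [4], [2, 6], [0], [2], [0, 2, 4], [0, 2, 6], [0], [0, 2], [4], [6], [], [], [], [], [], [], [], [], [0], [2], [0, 2, 4], [6], [0], [2], [0, 4, 6], [6], [], [], [], []] = true := by decide +kernel
theorem nrmA_ok : nrmOk LAw LC [[0], [0], [0], [0], [0], [0], [0], [0], [0], [0], [0], [0], [0], [], [0], [0], [0]] = true := by decide +kernel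
theorem centQ_ok : allLt (fun a => force (tC_T a) (allT fun r =>
    bimp (allL (fun i => o28.comm r (nth XL i)) [4, 3, 2, 1]) (allE (fun q =>
      bimp (allL (fun i => o28.comm q (nth XL i)) [8, 11, 7, 6]) (bor (o28.isOne q) (o28.eqv q (nth XL 0)))) r))) 15 = true := by
  decide +kernel
end H15R
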